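import Cfsg.Agent.N3.B
import Cfsg.Agent.W.Cor
import Cfsg.Agent.BS.SECor

/-! Degree `3p`: the strongly embedded case. -/

set_option autoImplicit false
set_option linter.unusedVariables false
set_option linter.unusedSectionVars false

namespace N3

open Cfsg Subgroup H8 H2 MulAction GW
open FT hiding Nx
open scoped Classical

universe u v

theorem dvd3 {p d : ℕ} (hp : p.Prime) (h : d ∣ 3 * p) (h3 : 3 < d) : p ∣ d := by
  by_contra e
  have := Nat.le_of_dvd (by norm_num)
    (((Nat.Prime.coprime_iff_not_dvd hp).2 e).symm.dvd_of_dvd_mul_right h)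
  omega

variable {G : Type u} [Group G] [Fintype G] {Ω : Type v} [Fintype Ω] [MulAction G Ω]
  {p : ℕ} [hp : Fact p.Prime] {x t : G} [IsPretransitive G Ω]

theorem exists_fix {Q : Subgroup G} (hQ : IsPGroup 2 Q) (ho : Odd (Fintype.card Ω)) :
    ∃ ω : Ω, Q ≤ stabilizer G ω := by
  obtain ⟨ω, hω⟩ := hQ.nonempty_fixed_point_of_prime_not_dvd_card Ω (by
    rw [Nat.card_eq_fintype_card]; exact ho.not_two_dvd_nat)
  exact ⟨ω, fun g hg => hω ⟨g, hg⟩⟩

namespace Hy

variable [IsSimpleGroup G] (hG : ¬ IsMulCommutative G) (h : Hy Ω p x t)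
include h

theorem oddΩ : Odd (Fintype.card Ω) := by rw [h.card]; exact Odd.mul (by decide) h.odd

theorem idx (ω : Ω) : (stabilizer G ω).index = 3 * p := by
  rw [index_stabilizer_of_transitive, Nat.card_eq_fintype_card, h.card]

include hG

theorem card_G : ∃ i, Nat.card G = 2 * p * (p * i + 1) := by
  obtain ⟨m, hm, -⟩ := exists_card_eq h.d1
  obtain ⟨h1, h2, -⟩ := loc_num hG h.d1 hm
  rw [h.H, h.V, card_bot] at h1
  refine ⟨(Nx x).index / p, ?_⟩
  have := Nat.div_add_mod (Nx x).index p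
  rw [h2] at this
  rw [hm, ← h1, this]; ring

theorem se {M : Subgroup G} (hM : IsStronglyEmbedded M) : ¬ IsPreprimitive G Ω ∧
    ∃ (F : Type) (_ : Field F) (_ : Fintype F) (m : ℕ), Fintype.card F = 2 ^ m ∧ p = 2 ^ m + 1 ∧
      Nonempty (G ≃* Matrix.ProjectiveSpecialLinearGroup (Fin 2) F) := by
  have hO := BS.oddCore_of_simple (BS.even_of_simple hG)
  obtain ⟨Q, D, r, h1, h2⟩ := BS.seThm G M hM (BS.rk2_top_iff.mp (BS.rk2_of_se hM hO)) hO
  have a := h1.toA1
  obtain ⟨ω, hω⟩ := exists_fix h2.two h.oddΩ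
  have p3 := h.gt
  have i1 := h.idx ω
  have le : stabilizer G ω ≤ M := fun g hg => by
    by_contra hg'
    obtain ⟨b, hb, y, hy, rfl⟩ := a.canon_left trivial hg'
    have k : ∀ c ∈ Q, r * c * r⁻¹ ∈ stabilizer G ω := fun c hc => by
      have := mul_mem (mul_mem (inv_mem (hω hb)) (mul_mem (mul_mem hg (hω (a.conj_mem_Q' hy hc)))
        (inv_mem hg))) (hω hb)
      convert this using 1; group
    have k2 : Q ≤ (stabilizer G ω).normalCore := fun c hc g => by
      by_cases e : g ∈ M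
      · exact hω (a.conj_mem_Q e hc)
      · obtain ⟨b, hb, y, hy, rfl⟩ := a.canon_left trivial e
        have := mul_mem (mul_mem (hω hb) (k _ (a.conj_mem_Q hy hc))) (inv_mem (hω hb))
        convert this using 1; group
    rcases (normalCore_normal (stabilizer G ω)).eq_bot_or_eq_top with e | e
    · have := a.even
      rw [le_bot_iff.1 (k2.trans e.le), card_bot] at this
      exact absurd this (by decide)
    · rw [eq_top_iff.2 (e.ge.trans (normalCore_le _)), index_top] at i1
      omega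
  have i2 := relIndex_mul_index le
  have i3 := a.relIndex_H
  rw [relIndex_top_right] at i3
  rw [i1, i3] at i2
  have d1 : Nat.card Q + 1 ∣ 3 * p := Dvd.intro_left _ i2
  obtain ⟨n, n2, hn⟩ := a.card_Q0 h1.a3
  have q4 : 4 ≤ Nat.card (BS.Q0 Q) := hn ▸ Nat.pow_le_pow_right (n := 2) two_pos n2
  obtain ⟨s, hs⟩ := a.exists_dist
  rcases h2.tri s hs with ⟨c, -, F, _, _, e, q⟩ | ⟨c, -, -, m, F, _, _, m1, e1, e2, -⟩ | ⟨c, -⟩
  · have e1 : BS.Fg Q r = ⊤ := h1.Fg_normal.eq_bot_or_eq_top.resolve_left fun e =>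
      a.t_ne_one (mem_bot.mp (e ▸ mem_sup_right (mem_zpowers r)))
    obtain ⟨φ⟩ := h1.equiv_of_cquot q
    have ψ := (topEquiv.symm.trans (MulEquiv.subgroupCongr e1.symm)).trans φ
    rw [c] at q4 hn e
    obtain ⟨j, hj⟩ := dvd3 hp.out d1 (by omega)
    rw [hj, mul_comm p, ← mul_assoc] at i2
    have i4 := Nat.eq_of_mul_eq_mul_right hp.out.pos i2
    rcases (Nat.dvd_prime Nat.prime_three).1 (Dvd.intro_left _ i4) with rfl | rfl
    · refine ⟨fun hpr => ?_, F, _, _, n, e.trans hn, by omega, ⟨ψ⟩⟩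
      have : Nontrivial Ω := Fintype.one_lt_card_iff_nontrivial.1 (by have := h.card; omega)
      refine hM.1 ((IsPreprimitive.isCoatom_stabilizer_of_isPreprimitive G ω).2 M
        (lt_of_le_of_ne le fun e => ?_))
      rw [e, relIndex_self] at i4
      omega
    · exfalso
      obtain ⟨i, hi⟩ := h.card_G hG
      rw [Nat.card_congr ψ.toEquiv, W.card_psl_even (e.trans hn), e] at hi
      generalize Nat.card Q = q at *
      have e3 : (q : ℤ) * (q ^ 2 - 1) = 2 * p * (p * i + 1) := by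
        have : 1 ≤ q ^ 2 := Nat.one_le_pow _ _ (by omega)
        zify [this] at hi; exact hi
      have e4 : (q : ℤ) = 3 * p - 1 := by omega
      have e5 : (p : ℤ) * 4 = p * (p * (2 * i - 27 * p + 27)) := by
        rw [e4] at e3; linear_combination e3
      have e6 : p ∣ 2 ^ 2 := Int.natCast_dvd_natCast.1
        ⟨_, mul_left_cancel₀ (by omega : (p : ℤ) ≠ 0) e5⟩
      have := Nat.le_of_dvd two_pos (hp.out.dvd_of_dvd_pow e6)
      omega
  · exfalso
    have e3 : 4 + 1 ∣ Nat.card Q + 1 := by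
      have := Odd.nat_add_dvd_pow_add_pow 4 1 (n := 2 * m + 1) (odd_two_mul_add_one m)
      rwa [one_pow, show 4 = 2 ^ 2 from rfl, ← pow_mul, mul_comm 2 (2 * m + 1), pow_mul, ← e1, e2,
        ← c] at this
    have e4 := Nat.le_of_dvd (by norm_num) (dvd3 hp.out (e3.trans d1) (by norm_num))
    have e5 := Nat.le_of_dvd (by omega) d1
    have e6 : 2 ^ 3 ≤ Nat.card (BS.Q0 Q) := by
      rw [← e2, e1]; exact Nat.pow_le_pow_right two_pos (by omega)
    nlinarith
  · exfalso
    obtain ⟨q, hq⟩ : ∃ q, Nat.card (BS.Q0 Q) = q + 1 := ⟨_, (Nat.sub_add_cancel (by omega)).symm⟩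
    have e : Nat.card Q + 1 = (q + 2) * (q * q + q + 1) := by rw [c, hq]; ring
    rw [e] at d1
    have e2 := (mul_dvd_mul (dvd3 hp.out ((dvd_mul_right _ _).trans d1) (by omega))
      (dvd3 hp.out ((dvd_mul_left _ _).trans d1) (by omega))).trans d1
    have := Nat.le_of_dvd (by norm_num) (Nat.dvd_of_mul_dvd_mul_right hp.out.pos e2)
    omega

end Hy

end N3
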