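import Cfsg.Agent.N3.C
import Cfsg.Agent.P.C4
import Cfsg.Agent.T2.Gwn

/-! Degree `3p`: the Sylow 2-subgroup when there is no strongly embedded subgroup. -/

set_option autoImplicit false
set_option linter.unusedVariables false
set_option linter.unusedSectionVars false

namespace N3

open Cfsg Subgroup H8 H2 H4 MulAction GW
open FT hiding Nx
open H5 (IsSylowOf)
open scoped Classical Pointwise

universe u v

theorem sign_semi {Ω : Type v} [Fintype Ω] {σ : Equiv.Perm Ω} {n : ℕ} (he : Even n)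
    (h1 : σ ^ n = 1) (h2 : ∀ ω, σ ω ≠ ω → ∀ k, (σ ^ k) ω = ω → n ∣ k) :
    ∃ j, σ.support.card = n * j ∧ Equiv.Perm.sign σ = (-1) ^ j := by
  have e : σ.cycleType = Multiset.replicate σ.cycleType.card n := by
    refine Multiset.eq_replicate_card.2 fun m hm => Nat.dvd_antisymm
      ((Equiv.Perm.dvd_of_mem_cycleType hm).trans (orderOf_dvd_of_pow_eq_one h1)) ?_
    obtain ⟨c, τ, rfl, d, hc, rfl⟩ := Equiv.Perm.mem_cycleType_iff.1 hm
    obtain ⟨ω, h3, -⟩ := id hc
    have h4 : τ ω = ω := (d ω).resolve_left h3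
    refine h2 ω (by rw [Equiv.Perm.mul_apply, h4]; exact h3) _ ?_
    rw [d.commute.mul_pow, Equiv.Perm.mul_apply, Equiv.Perm.pow_apply_eq_self_of_apply_eq_self h4,
      ← hc.orderOf, pow_orderOf_eq_one, Equiv.Perm.one_apply]
  have e2 : σ.cycleType.sum = n * σ.cycleType.card := by
    conv_lhs => rw [e, Multiset.sum_replicate, smul_eq_mul, mul_comm]
  refine ⟨_, (Equiv.Perm.sum_cycleType σ).symm.trans e2, ?_⟩
  rw [Equiv.Perm.sign_of_cycleType, pow_add, e2, (he.mul_right _).neg_one_pow, one_mul]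

variable {G : Type u} [Group G] [Fintype G] {Ω : Type v} [Fintype Ω] [MulAction G Ω]

theorem fx_eq (g : G) : fx Ω g = (fixedBy Ω g).ncard := Nat.card_coe_set_eq _

theorem fix_three {e : G} (h : fx Ω e = 3) {a b c ω : Ω} (ab : a ≠ b) (ac : a ≠ c) (bc : b ≠ c)
    (ha : e • a = a) (hb : e • b = b) (hc : e • c = c) (hω : e • ω = ω) :
    ω = a ∨ ω = b ∨ ω = c := by
  have : ({a, b, c} : Set Ω) = fixedBy Ω e := Set.eq_of_subset_of_ncard_le (by
    rintro _ (rfl | rfl | rfl) <;> assumption) (by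
      rw [← fx_eq, h, Set.ncard_eq_three.2 ⟨a, b, c, ab, ac, bc, rfl⟩])
  exact this.ge hω

theorem cen_fix {y z : G} (hy : y ∈ Cen1 z) {ω : Ω} (h : z • ω = ω) : z • y • ω = y • ω := by
  rw [← mul_smul, ← c1.1 hy, mul_smul, h]

theorem zp_fix {y e : G} (he : e ∈ zpowers y) {ω : Ω} (h : y • ω = ω) : e • ω = ω :=
  (zpowers_le (H := stabilizer G ω)).2 h he

/-- the configuration without strongly embedded subgroup -/
structure NS (S : Sylow 2 G) (z u : G) (α β γ : Ω) : Prop where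
  zS : z ∈ (S : Subgroup G)
  oz : orderOf z = 2
  zc : (S : Subgroup G) ≤ Cen1 z
  uS : u ∈ (S : Subgroup G)
  ou : orderOf u = 2
  Sa : (S : Subgroup G) ≤ stabilizer G α
  fix : ∀ ω, z • ω = ω ↔ ω = α ∨ ω = β ∨ ω = γ
  ab : α ≠ β
  ac : α ≠ γ
  bc : β ≠ γ
  ub : u • β = γ
  three : ∀ y : G, orderOf y = 2 → fx Ω y = 3

theorem act3 {y z : G} {α β γ : Ω} (fix : ∀ ω, z • ω = ω ↔ ω = α ∨ ω = β ∨ ω = γ) (ab : α ≠ β)
    (ac : α ≠ γ) (bc : β ≠ γ) (hy : y ∈ Cen1 z) (ha : y • α = α) :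
    (y • β = β ∧ y • γ = γ) ∨ (y • β = γ ∧ y • γ = β) := by
  have h1 := (fix _).1 (cen_fix hy ((fix β).2 (by simp)))
  have h2 := (fix _).1 (cen_fix hy ((fix γ).2 (by simp)))
  have h3 : y • β ≠ α := fun e => ab (smul_left_cancel y (ha.trans e.symm))
  have h4 : y • γ ≠ α := fun e => ac (smul_left_cancel y (ha.trans e.symm))
  have h5 : y • β ≠ y • γ := fun e => bc (smul_left_cancel y e)
  grind

variable {p : ℕ} [hp : Fact p.Prime] {x t : G} [IsPretransitive G Ω]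
  [IsSimpleGroup G] (hG : ¬ IsMulCommutative G) (h : Hy Ω p x t)

include hG h in
theorem Hy.chars' {z : G} (oz : orderOf z = 2) : ∃ d a : ℤ,
      ((Cen1 z).index * (d - a) ^ 2 = p * Nat.card (Cen1 z) * (d * (d - 1))) ∧
      ((d = p - 1 ∧ a = 0) ∨ (d = 2 * p - 1 ∧ a = 1 ∧ R3 G Ω p) ∨
        (d = 3 * p - 1 ∧ a + 1 = fx Ω z)) := by
  obtain ⟨h1, h2⟩ := h.chars hG
  obtain ⟨g, rfl⟩ := isConj_iff.1 (h1 z oz)
  have e : Nat.card (Cen1 (g * t * g⁻¹)) = Nat.card (Cen1 t) := by rw [← conj_c1, card_conjS]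
  have e2 : (Cen1 (g * t * g⁻¹)).index = (Cen1 t).index := Nat.eq_of_mul_eq_mul_left
    (Nat.card_pos (α := Cen1 t)) (by rw [card_mul_index, ← e, card_mul_index])
  rwa [e, e2, ← fx_conj (h1 _ oz)]

include hG h in
theorem Hy.dich : (∃ M : Subgroup G, IsStronglyEmbedded M) ∨
    ∃ (S : Sylow 2 G) (z u : G) (α β γ : Ω), NS S z u α β γ := by
  obtain ⟨S⟩ : Nonempty (Sylow 2 G) := inferInstance
  have hS := H5.isSylowOf_top S
  obtain ⟨α, hα⟩ := exists_fix S.isPGroup' h.oddΩ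
  obtain ⟨z, zS, oz, zc⟩ := P.exists_zinv S.isPGroup' (hS.ne_bot (by
    rw [card_top]; exact (BS.even_of_simple hG).two_dvd))
  have k : ∀ u : G, orderOf u = 2 → fx Ω u = fx Ω t := fun u hu =>
    (fx_conj ((h.chars hG).1 u hu)).symm
  have k3 := h.fx_le
  have p3 := h.gt
  by_cases ha : ∀ u ∈ (S : Subgroup G), orderOf u = 2 → fixedBy Ω u = fixedBy Ω z
  · have le : (S : Subgroup G) ≤ stabilizer G (fixedBy Ω z) := fun s hs => by
      rw [mem_stabilizer_iff, smul_fixedBy, c1'.1 (zc hs)]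
    have key : ∀ v ∈ stabilizer G (fixedBy Ω z), orderOf v = 2 → fixedBy Ω v = fixedBy Ω z :=
      fun v hv ov => by
        obtain ⟨g, hg, e⟩ := (hS.of_le le le_top).exists_conj_le (two_zp ov) (zpowers_le.2 hv)
        have := ha _ (e (conj_mem_conjS (mem_zpowers v))) (iconj ov g)
        rw [← smul_fixedBy] at this
        exact smul_left_cancel g (this.trans hg.symm)
    refine Or.inl ⟨stabilizer G (fixedBy Ω z), fun e => ?_, ?_, fun g hg => ?_⟩
    · have : fixedBy Ω z = Set.univ := Set.eq_univ_of_forall fun ω => by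
        obtain ⟨g, rfl⟩ := exists_smul_eq G α ω
        have h1 : g • fixedBy Ω z = fixedBy Ω z := e.ge (mem_top g)
        exact h1 ▸ Set.smul_mem_smul_set (hα zS)
      have h1 := k z oz
      rw [fx, this, Nat.card_univ, Nat.card_eq_fintype_card, h.card] at h1
      omega
    · exact even_iff_two_dvd.2 (oz ▸ orderOf_dvd_natCard _ (le zS))
    · by_contra ho
      obtain ⟨v, hv, v1, v2⟩ := BS.exists_inv_of_even (Nat.not_odd_iff_even.1 ho)
      have ov := orderOf_eq_two' v2 v1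
      have h1 := key _ (mem_conjS.1 hv.2) (by simpa using iconj ov g⁻¹)
      rw [show g⁻¹ * v * g = g⁻¹ * v * g⁻¹⁻¹ by rw [inv_inv], ← smul_fixedBy, key v hv.1 ov] at h1
      exact hg (inv_mem_iff.1 h1)
  push Not at ha
  obtain ⟨u, uS, ou, ne⟩ := ha
  have k3 : fx Ω t = 3 := by
    by_contra e
    have h1 : fx Ω t = 1 := by have := Nat.odd_iff.1 (h.fx_odd h.t2); omega
    have h2 : ∀ v ∈ (S : Subgroup G), orderOf v = 2 → {α} = fixedBy Ω v := fun v hv ov =>
      Set.eq_of_subset_of_ncard_le (Set.singleton_subset_iff.2 (hα hv)) (by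
        rw [← fx_eq, k v ov, h1, Set.ncard_singleton])
    exact ne ((h2 u uS ou).symm.trans (h2 z zS oz))
  obtain ⟨β, γ, bc, e⟩ := Set.ncard_eq_two.1 (show (fixedBy Ω z \ {α}).ncard = 2 by
    rw [Set.ncard_sdiff_singleton_of_mem (show α ∈ fixedBy Ω z from hα zS), ← fx_eq, k z oz, k3])
  have e1 : ∀ ω, z • ω = ω ∧ ω ≠ α ↔ ω = β ∨ ω = γ := Set.ext_iff.1 e
  have ab : α ≠ β := ((e1 β).2 (Or.inl rfl)).2.symm
  have ac : α ≠ γ := ((e1 γ).2 (Or.inr rfl)).2.symm
  have fix : ∀ ω, z • ω = ω ↔ ω = α ∨ ω = β ∨ ω = γ := fun ω => by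
    rw [← e1]
    by_cases a : ω = α
    · simpa [a] using hα zS
    · simp [a]
  refine Or.inr ⟨S, z, u, α, β, γ, zS, oz, zc, uS, ou, hα, fix, ab, ac, bc, ?_,
    fun y hy => (k y hy).trans k3⟩
  rcases act3 fix ab ac bc (zc uS) (hα uS) with ⟨h1, h2⟩ | ⟨h1, -⟩
  · refine absurd (Set.ext fun ω => ⟨fun a => (fix ω).2 (fix_three ((k u ou).trans k3) ab ac bc
      (hα uS) h1 h2 a), fun a => ?_⟩) ne
    rcases (fix ω).1 a with rfl | rfl | rfl
    exacts [hα uS, h1, h2]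
  · exact h1

namespace NS

variable {S : Sylow 2 G} {z u : G} {α β γ : Ω} (n : NS S z u α β γ)
include n

theorem act {y : G} (hy : y ∈ (S : Subgroup G)) :
    (y • β = β ∧ y • γ = γ) ∨ (y • β = γ ∧ y • γ = β) :=
  act3 n.fix n.ab n.ac n.bc (n.zc hy) (n.Sa hy)

theorem zb : z • β = β := (n.fix β).2 (by simp)

theorem zg : z • γ = γ := (n.fix γ).2 (by simp)

theorem ug : u • γ = β := ((n.act n.uS).resolve_left fun e => n.bc (e.1.symm.trans n.ub)).2

theorem f4 : F4 z u := ⟨n.oz, n.ou, (c1.1 (n.zc n.uS)).symm, fun e => n.bc (by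
  rw [← n.ub, e, n.zb])⟩

theorem ex_inv {y : G} (hy : y ∈ (S : Subgroup G)) (h1 : y ≠ 1) :
    ∃ e ∈ zpowers y, orderOf e = 2 :=
  P.exists_inv_mem (S.isPGroup'.to_le (zpowers_le.2 hy)) (zpowers_ne_bot.2 h1)

theorem eq_one {y : G} (hy : y ∈ (S : Subgroup G)) (hb : y • β = β) {ω : Ω} (h1 : y • ω = ω)
    (h2 : z • ω ≠ ω) : y = 1 := by
  by_contra e
  obtain ⟨e, he, oe⟩ := n.ex_inv hy e
  exact h2 ((n.fix ω).2 (fix_three (n.three e oe) n.ab n.ac n.bc (zp_fix he (n.Sa hy))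
    (zp_fix he hb) (zp_fix he ((n.act hy).resolve_right fun e => n.bc (hb.symm.trans e.1)).2)
    (zp_fix he h1)))

theorem fix_u {ω : Ω} (h1 : u • ω = ω) (h2 : z • ω = ω) : ω = α := by
  rcases (n.fix ω).1 h2 with rfl | rfl | rfl
  · rfl
  · exact absurd (h1.symm.trans n.ub) n.bc
  · exact absurd (n.ug.symm.trans h1) n.bc

theorem cenS : (S : Subgroup G) ⊓ Cen1 u = V4 z u := by
  refine le_antisymm ?_ (V_le ⟨n.zS, n.f4.tH⟩ ⟨n.uS, c1.2 rfl⟩)
  obtain ⟨δ, h1, h2⟩ := Set.exists_ne_of_one_lt_ncard (s := fixedBy Ω u) (by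
    rw [← fx_eq, n.three u n.ou]; norm_num) α
  have h3 : z • δ ≠ δ := fun e => h2 (n.fix_u h1 e)
  have k : ∀ y ∈ (S : Subgroup G) ⊓ Cen1 u, y • β = β → y ∈ V4 z u := fun y hy hb => by
    have h4 : ∀ y ∈ (S : Subgroup G), y • δ ≠ α := fun y hy e =>
      h2 (smul_left_cancel y (e.trans (n.Sa hy).symm))
    rcases fix_three (n.three u n.ou) h2.symm (h4 z n.zS).symm h3.symm (n.Sa n.uS) h1
      (cen_fix n.f4.tH h1) (cen_fix hy.2 h1) with e | e | e
    · exact absurd e (h4 y hy.1)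
    · rw [n.eq_one hy.1 hb e h3]; exact one_mem _
    · refine (mul_mem_cancel_left (t_V z u)).1 ?_
      rw [n.eq_one (mul_mem n.zS hy.1) (by rw [mul_smul, hb, n.zb])
        (by rw [mul_smul, e, ← mul_smul, ii n.oz, one_smul]) h3]
      exact one_mem _
  intro y hy
  rcases n.act hy.1 with e | e
  · exact k y hy e.1
  · exact (mul_mem_cancel_left (a_V z u)).1 (k _ (mul_mem ⟨n.uS, c1.2 rfl⟩ hy) (by
      rw [mul_smul, e.1, n.ug]))

theorem semi {y v : G} (hy : y ∈ (S : Subgroup G)) (hz : z ∈ zpowers y) (hv : v ∈ zpowers y)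
    {ω : Ω} (h1 : z • ω ≠ ω) (h2 : v • ω = ω) : v = 1 := by
  by_contra e
  obtain ⟨e, he, oe⟩ := n.ex_inv (zpowers_le.2 hy hv) e
  exact h1 (inv_uniq (zpowers_le.2 hv he) hz oe n.oz ▸ zp_fix he h2)

include hG in
theorem par {y : G} (hy : y ∈ (S : Subgroup G)) (hz : z ∈ zpowers y) :
    ∃ j, Fintype.card Ω = 3 + orderOf y * j ∧ (Even j ↔ y • β = β) := by
  have out : ∀ k : ℕ, ∀ ω : Ω, z • ω ≠ ω → z • y ^ k • ω ≠ y ^ k • ω := fun k ω a e => a (by
    rwa [← mul_smul, ← c1.1 (n.zc (pow_mem hy k)), mul_smul, smul_left_cancel_iff] at e)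
  have key : ∀ σ : Equiv.Perm Ω, (∀ ω, z • ω = ω → σ ω = ω) → (∀ ω, z • ω ≠ ω → σ ω = y • ω) →
      ∃ j, Fintype.card Ω = 3 + orderOf y * j ∧ Equiv.Perm.sign σ = (-1) ^ j := fun σ h1 h2 => by
    have h3 : ∀ k : ℕ, ∀ ω, z • ω ≠ ω → (σ ^ k) ω = y ^ k • ω := fun k ω a => by
      induction k with
      | zero => simp
      | succ k ih => rw [pow_succ', Equiv.Perm.mul_apply, ih, h2 _ (out k ω a), pow_succ', mul_smul]
    obtain ⟨j, h4, h5⟩ := sign_semi (σ := σ) (n := orderOf y) (even_iff_two_dvd.2 (by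
      rw [← n.oz, ← Nat.card_zpowers y]; exact orderOf_dvd_natCard _ hz)) (Equiv.ext fun ω => by
        by_cases a : z • ω = ω
        · exact Equiv.Perm.pow_apply_eq_self_of_apply_eq_self (h1 ω a) _
        · rw [h3 _ ω a, pow_orderOf_eq_one, one_smul, Equiv.Perm.one_apply]) fun ω a k e => by
        have a' : z • ω ≠ ω := fun b => a (h1 ω b)
        exact orderOf_dvd_of_pow_eq_one (n.semi hy hz (pow_mem (mem_zpowers y) k) a'
          ((h3 k ω a').symm.trans e))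
    refine ⟨j, ?_, h5⟩
    rw [← h4, ← n.three z n.oz, fx, Nat.card_eq_fintype_card, Fintype.card_subtype,
      ← Finset.card_univ, ← Finset.card_filter_add_card_filter_not (fun ω => ω ∈ fixedBy Ω z)]
    congr 2
    ext ω
    simp only [Finset.mem_filter, Finset.mem_univ, true_and, Equiv.Perm.mem_support, mem_fixedBy]
    exact ⟨fun a e => a (zp_fix hz ((h2 ω a).symm.trans e)), fun a e => a (h1 ω e)⟩
  have s1 := sign_toPerm_eq_one (α := Ω) hG y
  rcases n.act hy with e | e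
  · obtain ⟨j, h1, h2⟩ := key (toPermHom G Ω y) (fun ω a => by
      rcases (n.fix ω).1 a with rfl | rfl | rfl
      exacts [n.Sa hy, e.1, e.2]) fun _ _ => rfl
    exact ⟨j, h1, iff_of_true ((neg_one_pow_eq_one_iff_even (by decide)).1 (h2.symm.trans s1)) e.1⟩
  · obtain ⟨j, h1, h2⟩ := key (toPermHom G Ω y * Equiv.swap β γ) (fun ω a => by
      rw [Equiv.Perm.mul_apply]
      rcases (n.fix ω).1 a with rfl | rfl | rfl
      · rw [Equiv.swap_apply_of_ne_of_ne n.ab n.ac]; exact n.Sa hy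
      · rw [Equiv.swap_apply_left]; exact e.2
      · rw [Equiv.swap_apply_right]; exact e.1) fun ω a => by
      rw [Equiv.Perm.mul_apply, Equiv.swap_apply_of_ne_of_ne (x := ω)
        (fun b => a (by rw [b, n.zb])) (fun b => a (by rw [b, n.zg]))]; rfl
    rw [map_mul, s1, Equiv.Perm.sign_swap n.bc, one_mul] at h2
    exact ⟨j, h1, iff_of_false (fun a => by rw [a.neg_one_pow] at h2; exact absurd h2 (by decide))
      fun a => n.bc (a.symm.trans e.1)⟩

theorem cnt_mod {w : G} (hw : w ∈ (S : Subgroup G)) (hz : z ∈ zpowers w) (hb : w • β = γ)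
    (h8 : 8 ∣ orderOf w) {R : Ω → Ω → Prop} (hR : Inv G R) (irr : ∀ a, ¬ R a a) :
    (cnt R w : ZMod 8) = 0 ∨ (cnt R w : ZMod 8) = 2 := by
  have hc := ((n.act hw).resolve_left fun e => n.bc (e.1.symm.trans hb)).2
  have h1 := H9.dvd_card_of_semiregular (zpowers w) (fun ω : Ω => R ω (w • ω) ∧ ¬ z • ω = ω)
    (fun v hv a ha => ⟨by
      rw [← mul_smul, H9.comm_of_mem_zpowers (mem_zpowers w) hv, mul_smul]
      exact hR _ _ _ ha.1, fun e => ha.2 (by
        rwa [← mul_smul, H9.comm_of_mem_zpowers hz hv, mul_smul, smul_left_cancel_iff] at e)⟩)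
    fun a ha v hv e => n.semi hw hz hv ha.2 e
  rw [Nat.card_zpowers, Nat.card_eq_fintype_card, Fintype.card_subtype] at h1
  have h2 := (ZMod.natCast_eq_zero_iff _ _).2 (h8.trans h1)
  rw [cnt, Nat.card_eq_fintype_card, Fintype.card_subtype,
    ← Finset.card_filter_add_card_filter_not (fun ω => z • ω = ω), Finset.filter_filter,
    Finset.filter_filter, Nat.cast_add, h2, add_zero]
  have h3 : R γ β ↔ R β γ := by rw [← hR.iff w γ β, hb, hc]
  by_cases a : R β γ
  · right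
    rw [show (Finset.univ.filter fun ω => R ω (w • ω) ∧ z • ω = ω) = {β, γ} from
      Finset.ext fun ω => ?_, Finset.card_pair n.bc, Nat.cast_two]
    simp only [Finset.mem_filter, Finset.mem_univ, true_and, n.fix, Finset.mem_insert,
      Finset.mem_singleton]
    constructor
    · rintro ⟨b, rfl | c⟩
      · exact absurd (show w • ω = ω from n.Sa hw) fun e => irr ω (by rwa [e] at b)
      · exact c
    · rintro (rfl | rfl)
      · exact ⟨hb ▸ a, by simp⟩
      · exact ⟨hc ▸ h3.2 a, by simp⟩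
  · left
    rw [Finset.filter_eq_empty_iff.2, Finset.card_empty, Nat.cast_zero]
    rintro ω - ⟨b, c⟩
    rcases (n.fix ω).1 c with rfl | rfl | rfl
    · exact irr ω (by rwa [show w • ω = ω from n.Sa hw] at b)
    · exact a (hb ▸ b)
    · exact a (h3.1 (hc ▸ b))

theorem odd_idx : Odd (Cen1 z).index ∧ ∃ c, Odd c ∧
    Nat.card (Cen1 z) = Nat.card (S : Subgroup G) * c := by
  have h1 := relIndex_mul_index n.zc
  have h2 : Odd (S : Subgroup G).index := Nat.odd_iff.2 (Nat.two_dvd_ne_zero.1 S.not_dvd_index)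
  rw [← h1, Nat.odd_mul] at h2
  refine ⟨h2.2, _, h2.1, ?_⟩
  rw [← H5.card_inf_mul_relIndex (S : Subgroup G) (Cen1 z), inf_eq_left.2 n.zc]

include hG h in
theorem not_big {w : G} (hw : w ∈ (S : Subgroup G)) (hz : z ∈ zpowers w) (hb : w • β = γ)
    (h8 : 8 ∣ orderOf w) (hc : Nat.card (S : Subgroup G) = orderOf w * 2) {j : ℕ} (oj : Odd j)
    (hj : 3 * p = 3 + orderOf w * j) : False := by
  obtain ⟨d, a, e, hd⟩ := h.chars' hG n.oz
  obtain ⟨oi, c, oc, e1⟩ := n.odd_idx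
  obtain ⟨m, hm⟩ := id h8
  have op := h.odd
  have p3 := h.gt
  rw [e1, hc, hm] at e
  rw [hm] at hj
  have hj' : (3 * p : ℤ) = 3 + 8 * m * j := by exact_mod_cast hj
  have m0 : (m : ℤ) ≠ 0 := by rintro h0; rw [h0] at hj'; omega
  generalize (Cen1 z).index = i at *
  have oi' : Odd (i : ℤ) := by exact_mod_cast oi
  have oj' : Odd (j : ℤ) := by exact_mod_cast oj
  have oc' : Odd (c : ℤ) := by exact_mod_cast oc
  have op' : Odd (p : ℤ) := by exact_mod_cast op
  push_cast at e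
  rcases hd with ⟨rfl, rfl⟩ | ⟨-, -, -, r⟩ | ⟨rfl, ha⟩
  · have e2 : (i : ℤ) * j = 2 * (3 * p * c * (p - 2)) := by
      apply mul_left_cancel₀ (a := 8 * (m : ℤ) * (p - 1)) (mul_ne_zero (by omega) (by omega))
      linear_combination 3 * e - i * (p - 1) * hj'
    exact Int.not_even_iff_odd.2 (oi'.mul oj') ⟨_, e2.trans (two_mul _)⟩
  · obtain ⟨k, hk⟩ := S.isPGroup' ⟨w, hw⟩
    obtain ⟨R, hR, irr, e2⟩ := r w k (congrArg Subtype.val hk) (by
      rw [fx_eq, Set.ncard_eq_one]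
      refine ⟨α, Set.ext fun ω => ⟨fun a => ?_, fun a => a ▸ n.Sa hw⟩⟩
      rcases (n.fix ω).1 (zp_fix hz a) with rfl | rfl | rfl
      · rfl
      · exact absurd ((show _ = _ from a).symm.trans hb) n.bc
      · exact absurd (smul_left_cancel w (hb.trans (show _ = _ from a).symm)) n.bc) (by
        rw [mul_assoc] at hj; omega)
    have e3 := n.cnt_mod hw hz hb h8 hR irr
    generalize (cnt R w : ZMod 8) = q at e2 e3
    revert q; decide
  · rw [n.three z n.oz] at ha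
    obtain rfl : a = 2 := by omega
    have e2 : 2 * ((i : ℤ) * m * j ^ 2) = p * c * (4 * m * j + 1) * (3 * p - 2) := by
      apply mul_left_cancel₀ (a := 32 * (m : ℤ)) (by omega)
      linear_combination e - i * (3 * p - 3 + 8 * m * j) * hj' +
        16 * m * p * c * (3 * p - 2) * hj'
    have o1 : Odd (4 * (m : ℤ) * j + 1) := ⟨2 * m * j, by ring⟩
    have o2 : Odd (3 * (p : ℤ) - 2) := (Odd.mul (by decide) op').sub_even (by decide)
    exact Int.not_even_iff_odd.2 (((op'.mul oc').mul o1).mul o2) ⟨_, e2.symm.trans (two_mul _)⟩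

include hG h in
theorem d2 : D2 G := by
  have c4 : Nat.card ↥((S : Subgroup G) ⊓ Cen1 u) = 4 := by rw [n.cenS, Dg.card_V n.f4]
  by_cases h4 : Nat.card (S : Subgroup G) = 4
  · refine T2.D2_of_F4 n.f4 fun e => S.not_dvd_index ?_
    rw [← (S : Subgroup G).card_mul_index, h4] at e
    exact Nat.dvd_of_mul_dvd_mul_left (by norm_num : 0 < 4) e
  obtain ⟨w, hw, hi⟩ := (P.exists_cyc_of_four S.isPGroup' n.ou n.uS c4).resolve_left h4
  have nc : ¬ (S : Subgroup G) ≤ Cen1 u := fun e => h4 (by rwa [inf_eq_left.2 e] at c4)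
  have cS : Nat.card (S : Subgroup G) = orderOf w * 2 := by
    rw [← H5.card_inf_mul_relIndex (zpowers w) S, hi, inf_eq_left.2 (zpowers_le.2 hw),
      Nat.card_zpowers]
  have g4 : 4 ≤ Nat.card (S : Subgroup G) := c4 ▸ card_le_of_le inf_le_left
  have mz : ∀ e ∈ zpowers w, orderOf e = 2 → e = z := fun e he oe => by
    have h1 := P.le_cen_of_index_two hw hi he oe
    rcases n.f4.mem_V.1 (n.cenS.le ⟨zpowers_le.2 hw he, c1s.1 (h1 n.uS)⟩) with a | a | a | a
    · exact absurd a (ine oe)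
    · exact a
    · exact absurd (a ▸ h1) nc
    · exact absurd (fun y hy => n.f4.cen_a (n.zc hy) (a ▸ h1 hy)) nc
  have zin : ∀ y ∈ zpowers w, y ≠ 1 → z ∈ zpowers y := fun y hy y1 => by
    obtain ⟨e, he, oe⟩ := n.ex_inv (zpowers_le.2 hw hy) y1
    exact mz e (zpowers_le.2 hy he) oe ▸ he
  have hz := zin w (mem_zpowers w) (by rintro rfl; rw [orderOf_one] at cS; omega)
  have uw : u ∉ zpowers w := fun e => n.f4.ne (mz u e n.ou)
  have i2 : ∀ a ∈ (S : Subgroup G), ∀ b ∈ (S : Subgroup G), a ∉ zpowers w → b ∉ zpowers w →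
      a * b ∈ zpowers w := fun a ha b hb a' b' =>
    ((mul_mem_iff_of_index_two hi (a := ⟨a, ha⟩) (b := ⟨b, hb⟩)).2 (iff_of_false a' b') :)
  suffices key : ∀ y ∈ (S : Subgroup G), y ∉ zpowers w → y * y = 1 by
    refine D2_of_sylow S (x := w) fun y hy y' => ⟨key y hy y', ?_, fun b hb b' => i2 y hy b hb y' b'⟩
    have := key (y * w) (mul_mem hy hw) fun e => y' ((mul_mem_cancel_right (mem_zpowers w)).1 e)
    rw [inv_eq_of_mul_eq_one_right (key y hy y'), eq_inv_iff_mul_eq_one, ← this]; group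
  obtain ⟨j, h1, h2⟩ := n.par hG hw hz
  obtain ⟨k, hk⟩ := IsPGroup.iff_card.1 S.isPGroup'
  obtain ⟨k, rfl⟩ : ∃ l, k = l + 1 := ⟨k - 1, by
    rcases k with _ | k
    · omega
    · rfl⟩
  have ow : orderOf w = 2 ^ k := by rw [cS, pow_succ] at hk; omega
  intro y hy y'
  have hv := i2 u n.uS y hy uw y'
  have ey : y = u * (u * y) := by rw [← mul_assoc, ii n.ou, one_mul]
  rcases Nat.even_or_odd j with ej | oj
  · by_contra y2
    have hz' : z ∈ zpowers y := zpowers_le.2 (mul_mem (mem_zpowers y) (mem_zpowers y))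
      (zin _ (i2 y hy y hy y' y') y2)
    obtain ⟨i, h3, h4⟩ := n.par hG hy hz'
    obtain ⟨a, ha, oy⟩ := (Nat.dvd_prime_pow Nat.prime_two).1 (hk ▸ orderOf_dvd_natCard _ hy)
    have ak : a ≤ k := by
      by_contra e
      have : zpowers y = S := eq_of_le_of_card_ge (zpowers_le.2 hy) (by
        rw [Nat.card_zpowers, oy, hk, show a = k + 1 by omega])
      exact n.f4.ne (inv_uniq (this.ge n.uS) hz' n.ou n.oz)
    obtain ⟨b, rfl⟩ := Nat.exists_eq_add_of_le ak
    rw [h1, ow, oy, pow_add, mul_assoc, add_right_inj] at h3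
    have h5 := h4.1 (Nat.eq_of_mul_eq_mul_left (by positivity) h3 ▸ ej.mul_left _)
    rw [ey, mul_smul, zp_fix hv (h2.1 ej), n.ub] at h5
    exact n.bc h5.symm
  have hb := ((n.act hw).resolve_left fun e => Nat.not_even_iff_odd.2 oj (h2.2 e.1)).1
  have k2 : k = 2 := by
    have : ¬ 3 ≤ k := fun e => n.not_big hG h hw hz hb (ow ▸ pow_dvd_pow 2 e) cS oj
      (h.card.symm.trans h1)
    rw [hk] at h4 g4
    have : k < 3 := by omega
    interval_cases k <;> omega
  subst k2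
  have nu : u ∈ Nor (zpowers w) := (normal_subgroupOf_iff_le_normalizer (zpowers_le.2 hw)).1
    (normal_of_index_eq_two hi) n.uS
  have w4 : w ^ 4 = 1 := by rw [← pow_orderOf_eq_one w, ow]; rfl
  have inv : u * w * u⁻¹ = w⁻¹ := by
    obtain ⟨i, hi, e⟩ := Finset.mem_image.1 (mem_zpowers_iff_mem_range_orderOf.1
      (cmem nu (mem_zpowers w)))
    have o : orderOf (w ^ i) = 4 := by rw [e, oconj, ow]; rfl
    have hi' : i < 4 := by simpa [ow] using hi
    interval_cases i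
    · simp at o
    · have := n.f4.mem_V.1 (n.cenS.le ⟨hw, c1s.1 (c1'.2 (by rw [← e, pow_one]))⟩)
      have o1 := n.oz
      have o2 := n.ou
      have o3 := n.f4.hta
      rcases this with a | a | a | a <;> simp_all
    · have := orderOf_dvd_of_pow_eq_one (show (w ^ 2) ^ 2 = 1 by rw [← pow_mul, w4])
      rw [o] at this
      exact absurd this (by decide)
    · rw [← e, eq_inv_iff_mul_eq_one, ← pow_succ, w4]
  obtain ⟨i, hi⟩ := mem_zpowers_iff.1 hv
  rw [ey, ← hi]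
  calc u * w ^ i * (u * w ^ i) = (u * w * u⁻¹) ^ i * w ^ i := by
        rw [conj_zpow, iinv n.ou]; group
    _ = 1 := by rw [inv]; group

end NS

end N3
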