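import Cfsg.Agent.N3.D
import Cfsg.Agent.P.C6

/-! Degree `3p`: dihedral Sylow 2-subgroups. -/

set_option autoImplicit false
set_option linter.unusedVariables false
set_option linter.unusedSectionVars false

namespace N3

open Cfsg Subgroup H8 H2 H4 MulAction GW
open FT hiding Nx
open H5 (IsSylowOf)
open scoped Classical Pointwise

universe u v

theorem cop_eq {A B X Y : ℤ} (h : A * X = B * Y) (h1 : IsCoprime B A) (h2 : IsCoprime X Y)
    (hB : 0 ≤ B) (hX : 0 ≤ X) : B = X :=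
  Int.dvd_antisymm hB hX (h1.dvd_of_dvd_mul_left ⟨Y, h⟩) (h2.dvd_of_dvd_mul_right ⟨A, by linarith⟩)

theorem numL {p : ℕ} (hp : p.Prime) (p3 : 3 < p) {s ε A d a : ℤ} (s0 : 0 < s)
    (hε : ε = 1 ∨ ε = -1) (hA : A = (4 * s + ε) * (2 * s + ε))
    (e : A * (d - a) ^ 2 = p * (4 * s) * (d * (d - 1))) :
    (d = p - 1 ∧ a = 0 → s = 1 ∧ A = 3 * p) ∧
    (d = 2 * p - 1 ∧ a = 1 → 2 * s + 1 = p ∧ A = p * (2 * p - 1)) ∧
    ¬ (d = 3 * p - 1 ∧ a = 2) := by
  have ε2 : ε ^ 2 = 1 := by rcases hε with rfl | rfl <;> norm_num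
  have c4 : IsCoprime (4 * s) A := ⟨9 * s - 2 * s * (1 - 6 * ε * s), 1 - 6 * ε * s, by
    rw [hA]; linear_combination (1 - 36 * s ^ 2 - 6 * ε * s) * ε2⟩
  have c2 : IsCoprime (2 * s) A := by
    rw [show 4 * s = 2 * s * 2 by ring] at c4; exact c4.of_mul_left_left
  have p1 : (p : ℤ) - 1 ≠ 0 := by omega
  refine ⟨?_, ?_, ?_⟩
  · rintro ⟨rfl, rfl⟩
    have e1 : A * (p - 1) = 4 * s * (p * (p - 2)) := by
      apply mul_left_cancel₀ p1; linear_combination e
    have e2 := cop_eq e1 c4 ⟨p - 1, -1, by ring⟩ (by omega) (by omega)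
    have e3 : (p : ℤ) = 4 * s + 1 := by omega
    have e4 : A = p * (p - 2) := by
      apply mul_right_cancel₀ p1; rw [e1, e2]; ring
    rw [hA, e3] at e4
    rcases hε with rfl | rfl
    · obtain rfl : s = 1 := by nlinarith
      exact ⟨rfl, by rw [hA, e3]; norm_num⟩
    · nlinarith
  · rintro ⟨rfl, rfl⟩
    have e1 : A * (p - 1) = 2 * s * (p * (2 * p - 1)) := by
      apply mul_left_cancel₀ (a := 4 * ((p : ℤ) - 1)) (by omega); linear_combination e
    have e2 := cop_eq e1 c2 ⟨-(2 * p + 1), 1, by ring⟩ (by omega) (by omega)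
    exact ⟨by omega, by apply mul_right_cancel₀ p1; rw [e1, e2]; ring⟩
  · rintro ⟨rfl, rfl⟩
    obtain ⟨j, hj⟩ := hp.odd_of_ne_two (by omega)
    have c3 : IsCoprime (3 : ℤ) p := by
      simpa using Nat.isCoprime_iff_coprime.2 ((Nat.coprime_primes Nat.prime_three hp).2 p3.ne)
    have hj' : (p : ℤ) = 2 * j + 1 := by omega
    rw [hj'] at e c3
    have e1 : A * (3 * j) ^ 2 = 2 * s * ((2 * j + 1) * ((3 * j + 1) * (6 * j + 1))) := by
      apply mul_left_cancel₀ (a := 4) (by norm_num); linear_combination e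
    have e2 := cop_eq e1 c2 (IsCoprime.pow_left (IsCoprime.mul_right
      (c3.mul_left ⟨-2, 1, by ring⟩) (IsCoprime.mul_right ⟨-1, 1, by ring⟩ ⟨-2, 1, by ring⟩)))
      (by omega) (by positivity)
    have j2 : (2 : ℤ) ≤ j := by omega
    have e3 : A = (2 * j + 1) * ((3 * j + 1) * (6 * j + 1)) := by
      apply mul_right_cancel₀ (a := _) (b := (3 * j : ℤ) ^ 2) (by positivity); rw [e1, e2]; ring
    have e4 : (18 * (j : ℤ) ^ 2 - 1) * (9 * j ^ 2 - 1) ≤ A := by
      rw [hA]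
      rcases hε with rfl | rfl <;> nlinarith
    nlinarith [mul_nonneg (sub_nonneg.2 j2) (pow_nonneg (by omega : (0 : ℤ) ≤ j) 3),
      mul_nonneg (sub_nonneg.2 j2) (sq_nonneg (j : ℤ))]

variable {G : Type u} [Group G] [Fintype G]

section L2

variable {q τ σ : ℕ} (hD : D2 G) (f : LFacts (⊤ : Subgroup G) q τ σ)
include hD f

theorem cenV {a b : G} (h : F4 a b) : Cen1 a ⊓ Cen1 b = V4 a b := by
  have e : Cen1 b ⊓ Uo a = ⊥ := eq_bot_iff.2 fun y hy => by
    have h1 := f.inv a b h.ht h.ha h.comm h.ne.symm y (by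
      rw [Dg.Kt_eq hD _ h.ht]; exact ⟨hy.2, trivial⟩)
    rw [c1'.1 (c1s.1 hy.1)] at h1
    exact eq_one_of_odd_sq (odd_ord (odd_Oo _) hy.2) (by nth_rewrite 1 [h1]; exact inv_mul_cancel y)
  refine (eq_of_le_of_card_ge (V_le (H := Cen1 a ⊓ Cen1 b) ⟨c1.2 rfl, h.tH⟩ ⟨h.aH, c1.2 rfl⟩)
    ?_).symm
  rw [inf_comm, hD.card_cenV h, e, card_bot, Dg.card_V h]

theorem uniq_nb {z w y y' : G} (ne : z ≠ w) (h1 : F4 y z) (h2 : F4 y w) (h3 : F4 y' z)
    (h4 : F4 y' w) : y = y' := by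
  have g1 : orderOf (z * w) ≠ 1 := fun e => ne (by
    rw [eq_inv_of_mul_eq_one_left (orderOf_eq_one_iff.1 e), iinv h2.ha])
  obtain ⟨l, hl, hd⟩ := Nat.exists_prime_and_dvd g1
  have := Fact.mk hl
  obtain ⟨⟨e, he⟩, oe⟩ := exists_prime_orderOf_dvd_card' (G := zpowers (z * w)) l (by
    rwa [Nat.card_zpowers])
  rw [← Subgroup.orderOf_coe] at oe
  simp only at oe
  have cm : ∀ {y}, F4 y z → F4 y w → e ∈ Cen1 y := fun a b =>
    zpowers_le.2 (mul_mem a.aH b.aH) he
  by_cases l2 : l = 2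
  · subst l2
    obtain ⟨k, hk⟩ := mem_zpowers_iff.1 he
    have cz : ∀ v, v * (z * w) * v⁻¹ = (z * w)⁻¹ → v ∈ Cen1 e := fun v hv => c1'.2 (by
      rw [← hk, ← conj_zpow, hv, _root_.inv_zpow, hk, iinv oe])
    have z1 := cz z (by rw [mul_inv_rev, iinv h2.ha, ← mul_assoc, ii h1.ha, one_mul])
    have w1 := cz w (by rw [mul_inv_rev, iinv h1.ha, iinv h2.ha, mul_assoc, mul_assoc, ii h2.ha,
      mul_one])
    have key : ∀ {y}, F4 y z → F4 y w → y = e := fun {y} a b => by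
      by_contra n
      have f4 : F4 y e := ⟨a.ht, oe, (c1.1 (cm a b)).symm, Ne.symm n⟩
      have k : z * w = y := by
        rcases ((f4.mem_V.1 ((cenV hD f f4).le ⟨a.aH, z1⟩)).resolve_left (ine a.ha)).resolve_left
          a.ne with c | c <;>
        rcases ((f4.mem_V.1 ((cenV hD f f4).le ⟨b.aH, w1⟩)).resolve_left (ine b.ha)).resolve_left
          b.ne with d | d
        · exact absurd (c.trans d.symm) ne
        · rw [c, d, f4.ata]
        · rw [c, d, mul_assoc, ii oe, mul_one]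
        · exact absurd (c.trans d.symm) ne
      exact n (inv_uniq (mem_zpowers y) (k ▸ he) a.ht oe)
    rw [key h1 h2, key h3 h4]
  have oo : Odd (orderOf e) := oe ▸ hl.odd_of_ne_two l2
  have e1 : e ≠ 1 := fun a => hl.ne_one (by rw [← oe, a, orderOf_one])
  have m : e ∈ Kt ⊤ y := subset_closure ⟨trivial, c1c.1 (cm h1 h2), oo⟩
  have c := f.F4 y h1.ht (zpowers e) (zpowers_le.2 m) (zpowers_ne_bot.2 e1)
    (mzp (c1s.1 (cm h3 h4)))
  by_contra n
  have h5 := f.inv y y' h1.ht h3.ht (c1c.1 c).symm n e m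
  rw [c1'.1 (c1s.1 (cm h3 h4))] at h5
  exact e1 (eq_one_of_odd_sq oo (by nth_rewrite 1 [h5]; exact inv_mul_cancel e))

theorem count {H : Subgroup G} {z u : G} (h : F4 z u) (hz : Cen1 z ≤ H)
    (hu : ∃ g ∈ H, g * z * g⁻¹ = u) : ∃ v, (Cen1 u).relIndex (Cen1 z) ≤ v ∧
      v + 1 ≤ (Cen1 z).relIndex H ∧ v * (v - 1) + 1 ≤ (Cen1 z).relIndex H := by
  let Z := Finset.univ.filter fun y => ∃ g ∈ H, g * z * g⁻¹ = y
  let N := fun y => Z.filter fun w => F4 y w
  have cZ : Z.card = (Cen1 z).relIndex H := by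
    rw [← card_class_in, Nat.card_eq_fintype_card, Fintype.card_subtype]
  have mZ : ∀ y, y ∈ Z ↔ ∃ g ∈ H, g * z * g⁻¹ = y := fun y => by simp [Z]
  have cj : ∀ g ∈ H, ∀ y ∈ Z, g * y * g⁻¹ ∈ Z := fun g hg y hy => by
    obtain ⟨k, hk, rfl⟩ := (mZ y).1 hy
    exact (mZ _).2 ⟨g * k, mul_mem hg hk, by group⟩
  have zZ : z ∈ Z := (mZ z).2 ⟨1, one_mem _, by group⟩
  have cE := Finset.card_erase_add_one zZ
  refine ⟨(N z).card, ?_, ?_, ?_⟩
  · rw [← card_class_in, Nat.card_eq_fintype_card, Fintype.card_subtype]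
    refine Finset.card_le_card fun y hy => ?_
    obtain ⟨g, hg, rfl⟩ := (Finset.mem_filter.1 hy).2
    exact Finset.mem_filter.2 ⟨cj g (hz hg) u ((mZ u).2 hu), by
      have := h.conj g
      rwa [c1'.1 hg] at this⟩
  · rw [← cZ, ← cE, Nat.add_le_add_iff_right]
    exact Finset.card_le_card fun y hy => Finset.mem_erase.2
      ⟨(Finset.mem_filter.1 hy).2.ne, (Finset.mem_filter.1 hy).1⟩
  · rw [← cZ, ← cE, Nat.add_le_add_iff_right]
    refine le_trans ?_ (Finset.card_le_card (s := (N z).biUnion fun y => (N y).erase z)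
      fun w hw => ?_)
    · rw [Finset.card_biUnion, ← smul_eq_mul, ← Finset.sum_const]
      · refine Finset.sum_le_sum fun y hy => le_trans (Nat.sub_le_sub_right ?_ 1)
          Finset.pred_card_le_card_erase
        obtain ⟨g, hg, rfl⟩ := (mZ y).1 (Finset.mem_filter.1 hy).1
        refine Finset.card_le_card_of_injOn (fun w => g * w * g⁻¹) (fun w hw => ?_)
          fun a _ b _ e => by simpa using e
        have hw' := Finset.mem_filter.1 hw
        exact Finset.mem_filter.2 ⟨cj g hg w hw'.1, hw'.2.conj g⟩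
      · intro y hy y' hy' ne
        refine Finset.disjoint_left.2 fun w a b => ne ?_
        exact uniq_nb hD f (Finset.mem_erase.1 a).1.symm (Finset.mem_filter.1 hy).2.symm
          (Finset.mem_filter.1 (Finset.mem_erase.1 a).2).2 (Finset.mem_filter.1 hy').2.symm
          (Finset.mem_filter.1 (Finset.mem_erase.1 b).2).2
    · obtain ⟨y, -, hy⟩ := Finset.mem_biUnion.1 hw
      exact Finset.mem_erase.2 ⟨(Finset.mem_erase.1 hy).1,
        (Finset.mem_filter.1 (Finset.mem_erase.1 hy).2).1⟩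

end L2

variable {Ω : Type v} [Fintype Ω] [MulAction G Ω] {p : ℕ} [hp : Fact p.Prime] {x t : G}
  [IsPretransitive G Ω] [IsSimpleGroup G] (hG : ¬ IsMulCommutative G) (h : Hy Ω p x t)
  {S : Sylow 2 G} {z u : G} {α β γ : Ω} (n : NS S z u α β γ)
include n

theorem NS.cen_le (h3 : ¬ 3 ∣ Nat.card (Cen1 z)) : Cen1 z ≤ stabilizer G α := by
  have h1 : (stabilizer G α).relIndex (Cen1 z) ≤ 3 := by
    rw [show (stabilizer G α).relIndex (Cen1 z) = (stabilizer (Cen1 z) α).index from rfl,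
      index_stabilizer, ← n.three z n.oz, fx_eq]
    refine Set.ncard_le_ncard ?_
    rintro _ ⟨g, rfl⟩
    exact cen_fix g.2 (n.Sa n.zS)
  have h2 := ((H5.isSylowOf_top S).of_le n.zc le_top).not_dvd
  have h4 := relIndex_dvd_of_le_left (Cen1 z) n.Sa
  have h5 := relIndex_dvd_card (stabilizer G α) (Cen1 z)
  have h6 := Nat.pos_of_dvd_of_pos h5 Nat.card_pos
  rw [← relIndex_eq_one]
  generalize (stabilizer G α).relIndex (Cen1 z) = r at *
  interval_cases r
  · rfl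
  · exact absurd h4 h2
  · exact absurd h5 h3

include hG h in
theorem NS.a6 : IsPreprimitive G Ω ∧ p = 5 ∧ Nonempty (G ≃* alternatingGroup (Fin 6)) := by
  have hD := n.d2 hG h
  have p3 := h.gt
  rcases gwThm G hG hD with ⟨F, _, _, h1, h2, ⟨e⟩⟩ | ⟨⟨e⟩⟩
  swap
  · exfalso
    obtain ⟨i, hi⟩ := h.card_G hG
    rw [Nat.card_congr e.toEquiv, nat_card_alternatingGroup, Nat.card_fin] at hi
    have h1 : p * (p * i + 1) = 6 ^ 2 * (5 * 7) := by
      simp only [Nat.factorial] at hi; linarith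
    rcases hp.out.dvd_mul.1 (Dvd.intro _ h1) with a | a
    · rcases hp.out.dvd_mul.1 (show p ∣ 2 * 3 from hp.out.dvd_of_dvd_pow a) with b | b <;>
        have := Nat.le_of_dvd (by norm_num) b <;> omega
    · rcases hp.out.dvd_mul.1 a with b | b
      · rw [(Nat.prime_dvd_prime_iff_eq hp.out (by norm_num)).1 b] at h1; omega
      · rw [(Nat.prime_dvd_prime_iff_eq hp.out (by norm_num)).1 b] at h1; omega
  obtain ⟨q, τ, σ, f⟩ := lfacts hD ⊤ (by
    rw [← center_eq_bot_of_simple hG]; exact centralizer_univ) ⟨F, _, _, h1, h2, ⟨topEquiv.trans e⟩⟩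
  have ci := f.card_in (fun _ _ => trivial) z n.oz S
  have cz : Nat.card (Cen1 z) = 2 * τ := by
    rw [Dg.card_odd_two hD n.oz le_rfl ((H5.isSylowOf_top S).of_le n.zc le_top), ← ci,
      Dg.Kt_eq hD _ n.oz, inf_top_eq, inf_eq_left.2 (Uo_le z), mul_comm]
  have iz := f.idx z trivial n.oz
  have rl := f.rel z trivial u n.oz n.ou n.f4.comm n.f4.ne.symm S
  rw [ci] at rl
  obtain ⟨s, rfl⟩ := f.even
  obtain ⟨d, a, e1, hd⟩ := h.chars' hG n.oz
  obtain ⟨ε, hε, hA⟩ : ∃ ε : ℤ, (ε = 1 ∨ ε = -1) ∧ ((q * σ : ℕ) : ℤ) = (4 * s + ε) * (2 * s + ε) := by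
    rcases f.num with ⟨a, b⟩ | ⟨a, b⟩
    · exact ⟨1, Or.inl rfl, by push_cast; congr 1 <;> omega⟩
    · exact ⟨-1, Or.inr rfl, by push_cast; congr 1 <;> omega⟩
  have s0 : 0 < s := by have := Nat.card_pos (α := Cen1 z); omega
  obtain ⟨k1, k2, k3⟩ := numL hp.out p3 (by omega) hε hA (d := d) (a := a) (by
    rw [← iz, e1, cz]; push_cast; ring)
  have hc : (s = 1 ∧ q * σ = 3 * p) ∨ (2 * s + 1 = p ∧ q * σ + p = p * (2 * p) ∧ p % 3 = 2) := by
    rcases hd with hd | ⟨a, b, c, -⟩ | ⟨a, b⟩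
    · exact Or.inl ⟨by have := (k1 hd).1; omega, by exact_mod_cast (k1 hd).2⟩
    · refine Or.inr ⟨by have := (k2 ⟨a, b⟩).1; omega, ?_, c⟩
      have := (k2 ⟨a, b⟩).2
      zify at this ⊢; linear_combination this
    · rw [n.three z n.oz] at b
      exact absurd ⟨a, by omega⟩ k3
  have le := n.cen_le (by rw [cz]; omega)
  have i1 := relIndex_mul_index le
  rw [h.idx, iz] at i1
  obtain ⟨v, v1, v2, v3⟩ := count hD f n.f4 le (by
    obtain ⟨g, -, hg⟩ := f.conj z trivial u trivial n.oz n.ou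
    refine ⟨g, n.fix_u ?_ ?_, hg⟩
    · rw [← hg, mul_smul, mul_smul, inv_smul_smul, show z • α = α from n.Sa n.zS]
    · have : z ∈ conjS g (Cen1 z) := by rw [conj_c1, hg]; exact n.f4.tH
      have h3 : (g⁻¹ * z * g) • α = α := le (mem_conjS.1 this)
      rwa [mul_smul, mul_smul, inv_smul_eq_iff] at h3)
  generalize (Cen1 z).relIndex (stabilizer G α) = k at *
  rcases hc with ⟨rfl, hc⟩ | ⟨c1, c2, -⟩
  · rw [hc] at i1
    have := Nat.eq_of_mul_eq_mul_right (by omega) (i1.trans (one_mul _).symm)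
    omega
  have c3 : 3 * k + 1 = 2 * p := Nat.eq_of_mul_eq_mul_left hp.out.pos (by linarith)
  have c4 : s = 2 := by
    obtain ⟨w, rfl⟩ : ∃ w, v = w + 1 := ⟨v - 1, by omega⟩
    rw [Nat.add_sub_cancel] at v3
    have : s ≤ w + 1 := by omega
    have : s ≤ 2 := by nlinarith
    omega
  subst c4
  obtain rfl : p = 5 := c1.symm
  have cG : Nat.card G = 360 := by rw [← (Cen1 z).card_mul_index, cz, iz]; omega
  refine ⟨?_, rfl, (H1.A6_or_psl7 (fun K hK => ?_) n.oz n.odd_idx.1 (P.isD8_of cz (fun hc => ?_)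
    n.f4 (GW.c1.2 rfl) n.f4.aH)).resolve_right fun e => by omega⟩
  · have : Nontrivial Ω := ⟨α, β, n.ab⟩
    have i2 := h.idx α
    refine (isCoatom_stabilizer_iff_preprimitive G α).1 ⟨fun e => ?_, fun M hM => ?_⟩
    · rw [e, index_top] at i2; omega
    by_contra e
    have h3 := two_mul_card_dvd_factorial_index hG M e
    have h4 := relIndex_mul_index hM.le
    have h5 : (stabilizer G α).relIndex M ≠ 1 := fun e => hM.not_ge (relIndex_eq_one.1 e)
    have h6 : M.index ≤ 15 := Nat.le_of_dvd (by norm_num) (Dvd.intro_left _ (h4.trans i2))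
    rw [i2] at h4
    rw [cG] at h3
    generalize M.index = m at *
    interval_cases m <;> first | omega | exact absurd h3 (by decide)
  · rcases (normal_of_index_eq_two hK).eq_bot_or_eq_top with rfl | rfl
    · rw [index_bot] at hK; omega
    · rw [index_top] at hK; omega
  · have : Cen1 z ≤ Cen1 u := fun y hy => GW.c1.2 (congrArg Subtype.val
      (hc.is_comm.comm ⟨y, hy⟩ ⟨u, n.f4.aH⟩))
    rw [relIndex_eq_one.2 this] at rl
    omega

end N3
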